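import Cfsg.Agent.Lib.Helper22.AG.Defs
import Cfsg.Agent.Lib.Helper48.TransFamSpi

/-!
# S3072 (AG): package [CJX]

`MinX` and membership in `O^p(X)` are invariant under conjugation.
-/

set_option autoImplicit false

namespace Cfsg.Agent.Lib.Helper77.AG

open Cfsg Cfsg.Agent.Lib.Helper22.AG Cfsg.Agent.Lib.Helper33

universe u

section aux

variable {G : Type u} [Group G]

/-- The isomorphism `A ≃* B` induced by conjugation by `y`, when `B = y A y⁻¹`. -/
noncomputable def cjEquiv (y : G) (A B : Subgroup G) (h : cj y A = B) : ↥A ≃* ↥B :=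
  (A.equivMapOfInjective (MulAut.conj y).toMonoidHom (MulAut.conj y).injective).trans
    (MulEquiv.subgroupCongr h)

theorem coe_cjEquiv (y : G) (A B : Subgroup G) (h : cj y A = B) (a : ↥A) :
    ((cjEquiv y A B h a : ↥B) : G) = y * (a : G) * y⁻¹ := rfl

theorem coe_cjEquiv_symm (y : G) (A B : Subgroup G) (h : cj y A = B) (b : ↥B) :
    (((cjEquiv y A B h).symm b : ↥A) : G) = y⁻¹ * (b : G) * y := by
  have h1 := coe_cjEquiv y A B h ((cjEquiv y A B h).symm b)
  rw [MulEquiv.apply_symm_apply] at h1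
  rw [h1]
  group

/-- `cjEquiv` carries `X ∩ A` to `y X y⁻¹ ∩ B`. -/
theorem map_cjEquiv_subgroupOf (y : G) (A B : Subgroup G) (h : cj y A = B) (X : Subgroup G) :
    (X.subgroupOf A).map (cjEquiv y A B h).toMonoidHom = (cj y X).subgroupOf B := by
  ext z
  rw [Subgroup.mem_map, Subgroup.mem_subgroupOf]
  constructor
  · rintro ⟨n, hn, rfl⟩
    rw [Subgroup.mem_subgroupOf] at hn
    show ((cjEquiv y A B h n : ↥B) : G) ∈ cj y X
    rw [coe_cjEquiv]
    exact conj_mem_cj hn
  · intro hz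
    refine ⟨(cjEquiv y A B h).symm z, ?_, ?_⟩
    · rw [Subgroup.mem_subgroupOf, coe_cjEquiv_symm]
      exact mem_cj.1 hz
    · show cjEquiv y A B h ((cjEquiv y A B h).symm z) = z
      exact MulEquiv.apply_symm_apply _ _

/-- Normality of `X ∩ N(H)` in `N(H)` is invariant under conjugation. -/
theorem normal_subgroupOf_cj (y : G) (H X : Subgroup G)
    (hn : (X.subgroupOf (Subgroup.normalizer (H : Set G))).Normal) :
    ((cj y X).subgroupOf (Subgroup.normalizer ((cj y H : Subgroup G) : Set G))).Normal := by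
  rw [← map_cjEquiv_subgroupOf y _ _ (cj_normalizer y H) X]
  exact hn.map _ (cjEquiv y _ _ (cj_normalizer y H)).surjective

theorem minX_cj {p : ℕ} (y : G) {H X : Subgroup G} (h : MinX p H X) :
    MinX p (cj y H) (cj y X) := by
  obtain ⟨h1, h2, h3, h4, h5⟩ := h
  refine ⟨cj_mono h1, ?_, normal_subgroupOf_cj y H X h3, ?_, ?_⟩
  · rw [← cj_normalizer]
    exact cj_mono h2
  · rw [relIndex_cj]
    exact h4
  · intro Y hY1 hY2 hY3 hY4
    rw [cj_le_iff]
    apply h5
    · rw [← cj_le_iff]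
      exact hY1
    · have := cj_mono (g := y⁻¹) hY2
      rwa [cj_normalizer, cj_inv_cj] at this
    · have := normal_subgroupOf_cj y⁻¹ (cj y H) Y hY3
      rwa [cj_inv_cj] at this
    · have : (cj y H).relIndex Y = H.relIndex (cj y⁻¹ Y) := by
        conv_lhs => rw [← cj_cj_inv y Y]
        rw [relIndex_cj]
      rw [← this]
      exact hY4

end aux

/-- [CJX] -/
theorem pkgConjX : PkgConjX.{u} := by
  intro G _ _ p _ H X x y hM hx
  refine ⟨minX_cj y hM, ?_⟩
  have h := Cfsg.Agent.Lib.Helper48.tf_pResidual_map_conj p X y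
  have h' : (Cfsg.pResidual p ↥(cj y X)).map (cj y X).subtype =
      ((Cfsg.pResidual p ↥X).map X.subtype).map (MulAut.conj y).toMonoidHom := h
  rw [h']
  exact ⟨x, hx, rfl⟩

end Cfsg.Agent.Lib.Helper77.AG
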