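import Cfsg.Agent.Lib.Helper22.AG.Defs
import Cfsg.Agent.Lib.Helper23.Transport
import Cfsg.Agent.Lib.Helper77.AG.ConjX

/-!
# S3072 (AG): package [CJG]

`Good p P H` is invariant under conjugation by elements of `N(P)`.
-/

set_option autoImplicit false

namespace Cfsg.Agent.Lib.Helper77.AG

open Cfsg Cfsg.Agent.Lib.Helper22.AG Cfsg.Agent.Lib.Helper33

universe u

/-- [CJG] -/
theorem pkgConjGood (hCC : PkgCCIso.{u}) : PkgConjGood.{u} := by
  intro G _ _ p _ P H y hy hG
  obtain ⟨h1, h2, h3, h4, h5⟩ := hG
  have hP : cj y P = P := mem_normalizer_iff_cj.1 hy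
  have hN := cj_normalizer y H
  have hC := cj_centralizer y H
  refine ⟨?_, ?_, ?_, ?_, ?_⟩
  · have := cj_mono (g := y) h1
    rwa [hP] at this
  · have e : (P ⊓ Subgroup.normalizer ((cj y H : Subgroup G) : Set G)).relIndex
        (Subgroup.normalizer ((cj y H : Subgroup G) : Set G)) =
        (P ⊓ Subgroup.normalizer (H : Set G)).relIndex (Subgroup.normalizer (H : Set G)) := by
      rw [← hN]
      conv_lhs => rw [← hP, ← cj_inf]
      rw [relIndex_cj]
    rw [e]
    exact h2
  · have := cj_mono (g := y) h3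
    rwa [cj_inf, hP, hC] at this
  · set φ := cjEquiv y (Subgroup.normalizer (H : Set G))
      (Subgroup.normalizer ((cj y H : Subgroup G) : Set G)) hN with hφ
    have e1 := Cfsg.Agent.Lib.Helper23.pPrimePCore_map p φ
    rw [← e1, Subgroup.map_map]
    have e2 : (Subgroup.normalizer ((cj y H : Subgroup G) : Set G)).subtype.comp φ.toMonoidHom =
        (MulAut.conj y).toMonoidHom.comp (Subgroup.normalizer (H : Set G)).subtype := by
      ext a
      rfl
    rw [e2, ← Subgroup.map_map, h4, Subgroup.map_sup]
    show cj y H ⊔ cj y (Subgroup.centralizer (H : Set G)) = _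
    rw [hC]
  · intro hconn
    apply h5
    set φ := cjEquiv y (Subgroup.normalizer (H : Set G))
      (Subgroup.normalizer ((cj y H : Subgroup G) : Set G)) hN with hφ
    have hmap : (H.subgroupOf (Subgroup.normalizer (H : Set G))).map φ.toMonoidHom =
        (cj y H).subgroupOf (Subgroup.normalizer ((cj y H : Subgroup G) : Set G)) :=
      map_cjEquiv_subgroupOf y _ _ hN H
    exact hCC p (QuotientGroup.congr _ _ φ hmap).symm hconn

end Cfsg.Agent.Lib.Helper77.AG
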